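import Cfsg.Agent.H272.NFUEv_m3
import Cfsg.Agent.H124.SUThreeEig
import Cfsg.Agent.NotResT.Comp_m3
import Cfsg.Agent.S0280
import Cfsg.Agent.S0279
import Cfsg.Agent.H176.NFBase
import Cfsg.Agent.FastGrp
import Cfsg.Agent.Prune
set_option linter.all false
prune_inst 0x7f00000000000000000000000000000000000000000000000000000000000000000000000000000000000000000000000000000000000000000000000000000000000000000000000000000000000000003fffffffffffffffffffffffffffbeffbdffffffff
open scoped Cfsg.Agent.FastGrp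

/-!
# Solvable subgroups of `PSU₃(5)` of order divisible by `7` (helper450, for S5773)

`card_dvd`: their order divides `21`.
-/

set_option autoImplicit false

namespace Cfsg.Agent.H450.NF

open Cfsg Cfsg.Agent.H176.NF

section general

variable {G : Type*} [Group G]

/-- The number of elements of a set on which the element `x` of prime order acts without fixed points except `1`. -/
theorem card_modEq_one {x : G} {r : ℕ} (hr : r.Prime) (hx : x ^ r = 1) (S : Set G) [Finite S] (h1 : 1 ∈ S)
    (hS : ∀ u ∈ S, x * u * x⁻¹ ∈ S) (h : ∀ u ∈ S, x * u = u * x → u = 1) : Nat.card S ≡ 1 [MOD r] := by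
  classical
  have := Fact.mk hr
  have := Fintype.ofFinite S
  let f : Function.End S := fun u => ⟨x * u * x⁻¹, hS u u.2⟩
  have hf : ∀ (k : ℕ) (u : S), ((f ^ k) u : G) = x ^ k * u * (x ^ k)⁻¹ := by
    intro k
    induction k with
    | zero => intro u; simp; rfl
    | succ k ih =>
      intro u
      have : (f ^ (k + 1)) u = (f ^ k) (f u) := by rw [pow_succ]; rfl
      rw [this, ih]
      change x ^ k * (x * u * x⁻¹) * (x ^ k)⁻¹ = _
      rw [pow_succ]; group
  have hf1 : f ^ r ^ 1 = 1 := by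
    funext u
    apply Subtype.ext
    rw [hf, pow_one, hx]
    simp
    rfl
  have h2 := Equiv.Perm.card_fixedPoints_modEq (p := r) (n := 1) hf1
  rw [Nat.card_eq_fintype_card]
  refine h2.trans ?_
  have h3 : Fintype.card (Function.fixedPoints f) = 1 := by
    rw [Fintype.card_eq_one_iff]
    refine ⟨⟨⟨1, h1⟩, ?_⟩, ?_⟩
    · apply Subtype.ext
      change x * 1 * x⁻¹ = 1
      group
    · rintro ⟨⟨u, hu⟩, hfu⟩
      have h4 : x * u * x⁻¹ = u := congrArg Subtype.val hfu
      rw [mul_inv_eq_iff_eq_mul] at h4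
      have h5 := h u hu h4
      subst h5
      rfl
  rw [h3]

end general

variable {F : Type} [Field F] [Fintype F]

theorem card_psu (hF : Fintype.card F = 5 ^ 2) : Nat.card (Cfsg.PSU 3 F 5) = 126000 := by
  have h := Cfsg.Agent.S0280.result (F := F) (q := 5) hF 3 (by norm_num)
  norm_num only [Finset.prod_range_succ, Nat.even_iff, _root_.Finset.range_one, _root_.Finset.prod_singleton, _root_.ite_true, _root_.ite_false] at h
  omega

theorem charP (hF : Fintype.card F = 5 ^ 2) : CharP F 5 := by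
  have := Fact.mk (by norm_num : Nat.Prime 5)
  exact charP_of_card_eq_prime_pow hF

/-- The element orders. -/
theorem orderOf_dvd (hF : Fintype.card F = 5 ^ 2) (x : Cfsg.PSU 3 F 5) :
    orderOf x ∣ 6 ∨ orderOf x ∣ 10 ∨ orderOf x ∣ 8 ∨ orderOf x ∣ 7 := by
  have := Fact.mk (by norm_num : Nat.Prime 5)
  have := charP hF
  have h := Cfsg.Agent.H124.SUThreeEig.orderOf_dvd hF 5 x
  have h3 : Nat.gcd 3 (5 + 1) = 3 := by norm_num
  rw [h3] at h
  norm_num only [_root_.false_and, _root_.or_false] at h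
  exact h

/-- Elements commuting with an element of order `7`. -/
theorem comm_seven (hF : Fintype.card F = 5 ^ 2) {x u : Cfsg.PSU 3 F 5} (hx : orderOf x = 7) {p k : ℕ}
    (hp : p.Prime) (hp7 : p ≠ 7) (hu : orderOf u = p ^ k) (h : x * u = u * x) : u = 1 := by
  have hco : (orderOf x).Coprime (orderOf u) := by
    rw [hx, hu]
    exact Nat.Coprime.pow_right k ((Nat.coprime_primes (by norm_num) hp).2 hp7.symm)
  have h1 : orderOf (x * u) = 7 * p ^ k := by
    rw [(show Commute x u from h).orderOf_mul_eq_mul_orderOf_of_coprime hco, hx, hu]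
  have h2 := orderOf_dvd hF (x * u)
  rw [h1] at h2
  have h3 : p ^ k = 1 := by
    rcases h2 with h2 | h2 | h2 | h2
    · exact absurd ((dvd_mul_right 7 _).trans h2) (by norm_num)
    · exact absurd ((dvd_mul_right 7 _).trans h2) (by norm_num)
    · exact absurd ((dvd_mul_right 7 _).trans h2) (by norm_num)
    · have h4 : 7 * p ^ k ∣ 7 * 1 := by simpa only [_root_.mul_one] using h2
      exact Nat.dvd_one.1 (Nat.dvd_of_mul_dvd_mul_left (by norm_num) h4)
  rw [← orderOf_eq_one_iff, hu, h3]

/-- `p`-subgroups normalised by an element of order `7`. -/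
theorem card_modEq (hF : Fintype.card F = 5 ^ 2) {x : Cfsg.PSU 3 F 5} (hx : orderOf x = 7) {p : ℕ}
    (hp : p.Prime) (hp7 : p ≠ 7) {U : Subgroup (Cfsg.PSU 3 F 5)} (hU : IsPGroup p U)
    (hxU : x ∈ Subgroup.normalizer (U : Set (Cfsg.PSU 3 F 5))) : Nat.card U ≡ 1 [MOD 7] := by
  refine card_modEq_one (x := x) (by norm_num) (by rw [← hx]; exact pow_orderOf_eq_one x)
    (U : Set (Cfsg.PSU 3 F 5)) U.one_mem ?_ ?_
  · intro u hu
    exact (Subgroup.mem_normalizer_iff.1 hxU u).1 hu
  · intro u hu h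
    obtain ⟨k, hk⟩ := hU ⟨u, hu⟩
    have h1 : u ^ p ^ k = 1 := congrArg Subtype.val hk
    obtain ⟨j, -, hj⟩ := (Nat.dvd_prime_pow hp).1 (orderOf_dvd_of_pow_eq_one h1)
    exact comm_seven hF hx hp hp7 hj h

/-- `2`-subgroups normalised by an element of order `7` are trivial. -/
theorem two_trivial (hF : Fintype.card F = 5 ^ 2) {x : Cfsg.PSU 3 F 5} (hx : orderOf x = 7)
    {U : Subgroup (Cfsg.PSU 3 F 5)} (hU : IsPGroup 2 U)
    (hxU : x ∈ Subgroup.normalizer (U : Set (Cfsg.PSU 3 F 5))) : Nat.card U = 1 := by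
  have := Fact.mk Nat.prime_two
  have h1 := card_modEq hF hx Nat.prime_two (by norm_num) hU hxU
  have hdvd := Subgroup.card_subgroup_dvd_card U
  obtain ⟨n, hn⟩ := IsPGroup.iff_card.1 hU
  have hfin : Finite (Cfsg.PSU 3 F 5) := Nat.finite_of_card_ne_zero (by rw [card_psu hF]; norm_num)
  have hn4 : n ≤ 4 := by
    rw [card_psu hF, hn, show (126000 : ℕ) = 2 ^ 4 * 7875 by norm_num] at hdvd
    by_contra hlt
    have h2 : 2 ^ 5 ∣ 2 ^ 4 * 7875 := (pow_dvd_pow 2 (by omega)).trans hdvd
    norm_num at h2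
  rw [hn] at h1 ⊢
  interval_cases n
  · rfl
  · exact absurd h1 (by decide)
  · exact absurd h1 (by decide)
  · -- order 8
    exfalso
    have hS : Nat.card {u : Cfsg.PSU 3 F 5 | u ∈ U ∧ u ^ 2 = 1} ≡ 1 [MOD 7] := by
      refine card_modEq_one (x := x) (by norm_num) (by rw [← hx]; exact pow_orderOf_eq_one x)
        _ ⟨U.one_mem, one_pow 2⟩ ?_ ?_
      · rintro u ⟨hu, hu2⟩
        refine ⟨(Subgroup.mem_normalizer_iff.1 hxU u).1 hu, ?_⟩
        rw [conj_pow, hu2]; group
      · rintro u ⟨hu, hu2⟩ h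
        obtain ⟨j, -, hj⟩ := (Nat.dvd_prime_pow Nat.prime_two).1
          (orderOf_dvd_of_pow_eq_one (by rw [pow_one]; exact hu2 : u ^ 2 ^ 1 = 1))
        exact comm_seven hF hx Nat.prime_two (by norm_num) hj h
    have hle : Nat.card {u : Cfsg.PSU 3 F 5 | u ∈ U ∧ u ^ 2 = 1} ≤ 8 := by
      rw [← show Nat.card U = 8 by rw [hn]; norm_num]
      exact Nat.card_mono (Set.toFinite _) (fun u hu => hu.1)
    -- there is an involution
    obtain ⟨t, ht⟩ := exists_prime_orderOf_dvd_card' (G := U) 2 (by rw [hn]; norm_num)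
    have ht2 : (t : Cfsg.PSU 3 F 5) ^ 2 = 1 := by
      have : t ^ 2 = 1 := by rw [← ht]; exact pow_orderOf_eq_one t
      exact congrArg Subtype.val this
    have ht1 : (t : Cfsg.PSU 3 F 5) ≠ 1 := by
      intro h
      have : t = 1 := Subtype.ext h
      rw [this, orderOf_one] at ht
      norm_num at ht
    have hge : 2 ≤ Nat.card {u : Cfsg.PSU 3 F 5 | u ∈ U ∧ u ^ 2 = 1} := by
      have h5 : Set.ncard ({1, (t : Cfsg.PSU 3 F 5)} : Set (Cfsg.PSU 3 F 5)) = 2 := Set.ncard_pair ht1.symm
      refine h5.symm.le.trans ?_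
      refine Set.ncard_le_ncard ?_ (Set.toFinite _)
      rintro u (rfl | hu)
      · exact ⟨U.one_mem, one_pow 2⟩
      · rw [Set.mem_singleton_iff] at hu
        rw [hu]
        exact ⟨t.2, ht2⟩
    have h8 : Nat.card {u : Cfsg.PSU 3 F 5 | u ∈ U ∧ u ^ 2 = 1} = 8 := by
      generalize Nat.card {u : Cfsg.PSU 3 F 5 | u ∈ U ∧ u ^ 2 = 1} = m at *
      interval_cases m <;> first | rfl | exact absurd hS (by decide)
    have hall : ∀ u ∈ U, u ^ 2 = 1 := by
      have h6 : {u : Cfsg.PSU 3 F 5 | u ∈ U ∧ u ^ 2 = 1} = (U : Set (Cfsg.PSU 3 F 5)) := by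
        apply Set.eq_of_subset_of_ncard_le (fun u hu => hu.1) _ (Set.toFinite _)
        have h7 : Set.ncard (U : Set (Cfsg.PSU 3 F 5)) = 8 := by
          show Nat.card U = 8
          rw [hn]; norm_num
        rw [h7]
        exact h8.ge
      intro u hu
      have : u ∈ {u : Cfsg.PSU 3 F 5 | u ∈ U ∧ u ^ 2 = 1} := by rw [h6]; exact hu
      exact this.2
    have hcomm : IsMulCommutative U := by
      refine ⟨⟨fun a b => ?_⟩⟩
      have ha : a * a = 1 := Subtype.ext (by have := hall a a.2; rwa [pow_two] at this)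
      have hb : b * b = 1 := Subtype.ext (by have := hall b b.2; rwa [pow_two] at this)
      have hab : (a * b) * (a * b) = 1 := Subtype.ext (by
        have := hall (a * b : U) (a * b).2; rwa [pow_two] at this)
      have h1 : a⁻¹ = a := inv_eq_of_mul_eq_one_right ha
      have h2 : b⁻¹ = b := inv_eq_of_mul_eq_one_right hb
      have h3 : (a * b)⁻¹ = a * b := inv_eq_of_mul_eq_one_right hab
      rw [mul_inv_rev, h1, h2] at h3
      exact h3.symm
    have hodd : Odd 5 := by decide
    have h9 := Cfsg.Agent.NotResT.TwoRank.prank_psu_three hF hodd U hcomm hall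
    rw [hn] at h9
    norm_num at h9
  · exact absurd h1 (by decide)

/-- The projection `SU → PSU`. -/
abbrev prj (F : Type) [Field F] : Cfsg.SU 3 F 5 →* Cfsg.PSU 3 F 5 := QuotientGroup.mk' (Subgroup.center (Cfsg.SU 3 F 5))

theorem card_center (hF : Fintype.card F = 5 ^ 2) : Nat.card (Subgroup.center (Cfsg.SU 3 F 5)) = 3 := by
  rw [Cfsg.Agent.S0279.result hF 3 le_rfl]
  norm_num

/-- elements of order prime to `3` are faithful -/
theorem eq_one_of_prj (hF : Fintype.card F = 5 ^ 2) {g : Cfsg.SU 3 F 5} (h : prj F g = 1) {m : ℕ}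
    (hm : g ^ m = 1) (h3 : Nat.Coprime m 3) : g = 1 := by
  have h1 : g ∈ Subgroup.center (Cfsg.SU 3 F 5) := (QuotientGroup.eq_one_iff g).1 h
  have h2 : g ^ 3 = 1 := by
    have h4 : (⟨g, h1⟩ : Subgroup.center (Cfsg.SU 3 F 5)) ^ 3 = 1 :=
      orderOf_dvd_iff_pow_eq_one.1 ((orderOf_dvd_natCard _).trans (card_center hF).dvd)
    exact congrArg Subtype.val h4
  have h5 := Nat.dvd_gcd (orderOf_dvd_of_pow_eq_one hm) (orderOf_dvd_of_pow_eq_one h2)
  rw [h3.gcd_eq_one] at h5
  exact orderOf_eq_one_iff.1 (Nat.dvd_one.1 h5)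

/-- `Bd` in `SU₃(5)` for the prime `2`. -/
theorem bd_two_su (hF : Fintype.card F = 5 ^ 2) : Bd (Cfsg.SU 3 F 5) 7 2 0 := by
  have hB := Cfsg.Agent.H743.NFLinB.bdOfUnip Cfsg.Agent.H176.NF.bdAbs
  have hfin : Finite (Cfsg.SU 3 F 5) := inferInstance
  have h3 : Nat.factorization 3 2 = 0 := Nat.factorization_eq_zero_of_not_dvd (by norm_num)
  have key := hB (Cfsg.SU 3 F 5) F (Fin 3) ((Cfsg.slToMat 3 F).comp (Cfsg.SU 3 F 5).subtype) ?_ 7 2 3 0
    (by norm_num) Nat.prime_two (by norm_num) (by rw [hF]; norm_num) ?_ (by simp) ?_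
  · rwa [h3] at key
  · intro a b hab
    apply Subtype.ext
    apply Subtype.ext
    exact hab
  · rw [hF]
    have : Fact (Nat.Prime 3) := ⟨by norm_num⟩
    exact orderOf_eq_prime (by decide) (by decide)
  · intro x hx U hU hxU
    have hxp : orderOf (prj F x) = 7 := by
      have : Fact (Nat.Prime 7) := ⟨by norm_num⟩
      refine orderOf_eq_prime ?_ ?_
      · rw [← map_pow, ← hx, pow_orderOf_eq_one, map_one]
      · intro h
        have := eq_one_of_prj hF h (m := 7) (by rw [← hx]; exact pow_orderOf_eq_one x) (by norm_num)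
        rw [this, orderOf_one] at hx
        norm_num at hx
    have h1 := two_trivial hF hxp (U := U.map (prj F)) (hU.map _) (by
      rw [Subgroup.mem_normalizer_iff]
      intro u
      constructor
      · rintro ⟨v, hv, rfl⟩
        exact ⟨x * v * x⁻¹, (Subgroup.mem_normalizer_iff.1 hxU v).1 hv, by simp only [_root_.QuotientGroup.mk'_apply, _root_.QuotientGroup.mk_mul, _root_.QuotientGroup.mk_inv]⟩
      · rintro ⟨v, hv, hvu⟩
        refine ⟨x⁻¹ * v * x, (Subgroup.mem_normalizer_iff.1 hxU _).2 (by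
          have : x * (x⁻¹ * v * x) * x⁻¹ = v := by group
          rwa [this]), ?_⟩
        rw [map_mul, map_mul, hvu, map_inv]
        group)
    have h2 : U = ⊥ := by
      rw [Subgroup.eq_bot_iff_forall]
      intro u hu
      have h4 : prj F u ∈ U.map (prj F) := ⟨u, hu, rfl⟩
      rw [Subgroup.card_eq_one.1 h1, Subgroup.mem_bot] at h4
      obtain ⟨k, hk⟩ := hU ⟨u, hu⟩
      have h5 : u ^ 2 ^ k = 1 := congrArg Subtype.val hk
      exact eq_one_of_prj hF h4 h5 (Nat.Coprime.pow_left k (by norm_num))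
    rw [h2, Subgroup.card_bot]
    simp

theorem bd_two (hF : Fintype.card F = 5 ^ 2) : Bd (Cfsg.PSU 3 F 5) 7 2 0 :=
  (bd_two_su hF).quot _ (Group.isSolvable_of_comm fun a b => Subtype.ext ((Subgroup.mem_center_iff.1 b.2) a))

/-- The primes `3` and `5`. -/
theorem bd_odd (hF : Fintype.card F = 5 ^ 2) {p : ℕ} (hp : p = 3 ∨ p = 5) :
    Bd (Cfsg.PSU 3 F 5) 7 p (Nat.factorization 6 p) := by
  have hfin : Finite (Cfsg.PSU 3 F 5) := Nat.finite_of_card_ne_zero (by rw [card_psu hF]; norm_num)
  have hpp : p.Prime := by rcases hp with rfl | rfl <;> norm_num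
  have hp7 : p ≠ 7 := by rcases hp with rfl | rfl <;> norm_num
  have := Fact.mk hpp
  have h7 : Fact (Nat.Prime 7) := ⟨by norm_num⟩
  have key := Cfsg.Agent.H176.NF.bdAbs (Cfsg.PSU 3 F 5) 7 p 6 0 (by norm_num) hpp hp7.symm (by norm_num) ?_ ?_ ?_
  · rwa [zero_add] at key
  · intro R hR
    obtain ⟨n, hn⟩ := IsPGroup.iff_card.1 hR
    have hd := Subgroup.card_subgroup_dvd_card R
    rw [card_psu hF, hn] at hd
    have hn1 : n ≤ 1 := by
      by_contra hlt
      have h2 := (pow_dvd_pow 7 (by omega : 2 ≤ n)).trans hd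
      norm_num at h2
    interval_cases n
    · have : Nat.card R = 1 := hn
      have := (Nat.card_eq_one_iff_unique.1 this).1
      exact isCyclic_of_subsingleton
    · exact isCyclic_of_prime_card (p := 7) hn
  · intro x y hx k j hy hxy
    have hk : (k : ZMod 7) ≠ 0 := by
      intro h
      rw [ZMod.natCast_eq_zero_iff] at h
      have h1 : x ^ k = 1 := by rw [← hx] at h; exact orderOf_dvd_iff_pow_eq_one.1 h
      rw [h1, mul_inv_eq_one, mul_eq_left] at hxy
      rw [hxy, orderOf_one] at hx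
      norm_num at hx
    exact orderOf_dvd_of_pow_eq_one (ZMod.pow_card_sub_one_eq_one hk)
  · intro x hx U hU hxU
    have h1 := card_modEq hF hx hpp hp7 hU hxU
    obtain ⟨n, hn⟩ := IsPGroup.iff_card.1 hU
    have hd := Subgroup.card_subgroup_dvd_card U
    rw [card_psu hF, hn] at hd
    rw [hn] at h1
    have hn0 : n = 0 := by
      rcases hp with rfl | rfl
      · have hn1 : n ≤ 2 := by
          by_contra hlt
          have h2 := (pow_dvd_pow 3 (by omega : 3 ≤ n)).trans hd
          norm_num at h2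
        interval_cases n
        · rfl
        · exact absurd h1 (by decide)
        · exact absurd h1 (by decide)
      · have hn1 : n ≤ 3 := by
          by_contra hlt
          have h2 := (pow_dvd_pow 5 (by omega : 4 ≤ n)).trans hd
          norm_num at h2
        interval_cases n
        · rfl
        · exact absurd h1 (by decide)
        · exact absurd h1 (by decide)
        · exact absurd h1 (by decide)
    rw [hn, hn0]
    simp

/-- **Solvable subgroups of order divisible by `7`.** -/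
theorem card_dvd (hF : Fintype.card F = 5 ^ 2) {M : Subgroup (Cfsg.PSU 3 F 5)} (hM : Group.IsSolvable M)
    (h7 : 7 ∣ Nat.card M) : Nat.card M ∣ 21 := by
  have hfin : Finite (Cfsg.PSU 3 F 5) := Nat.finite_of_card_ne_zero (by rw [card_psu hF]; norm_num)
  have hM0 : Nat.card M ≠ 0 := Nat.card_pos.ne'
  have h2 := bd_two hF M hM h7
  have h3 := bd_odd hF (Or.inl rfl) M hM h7
  have h5 := bd_odd hF (Or.inr rfl) M hM h7
  have e3 : Nat.factorization 6 3 = 1 := by
    rw [show (6 : ℕ) = 2 * 3 by norm_num, Nat.factorization_mul (by norm_num) (by norm_num), Finsupp.add_apply,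
      Nat.factorization_eq_zero_of_not_dvd (by norm_num), (by norm_num : Nat.Prime 3).factorization_self]
  have e5 : Nat.factorization 6 5 = 0 := Nat.factorization_eq_zero_of_not_dvd (by norm_num)
  rw [e3] at h3
  rw [e5] at h5
  have d2 : ¬ 2 ∣ Nat.card M := by
    intro h
    have := (Nat.Prime.dvd_iff_one_le_factorization Nat.prime_two hM0).1 h
    omega
  have d5 : ¬ 5 ∣ Nat.card M := by
    intro h
    have := (Nat.Prime.dvd_iff_one_le_factorization (by norm_num : Nat.Prime 5) hM0).1 h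
    omega
  have d9 : ¬ 9 ∣ Nat.card M := by
    intro h
    have := (Nat.Prime.pow_dvd_iff_le_factorization (by norm_num : Nat.Prime 3) hM0 (k := 2)).1 h
    omega
  have hd := Subgroup.card_subgroup_dvd_card M
  rw [card_psu hF, show (126000 : ℕ) = 2000 * 63 by norm_num] at hd
  have hco : (Nat.card M).Coprime 2000 := by
    rw [show (2000 : ℕ) = 2 ^ 4 * 5 ^ 3 by norm_num]
    exact Nat.Coprime.mul_right (Nat.Coprime.pow_right _ ((Nat.Prime.coprime_iff_not_dvd Nat.prime_two).2 d2).symm)
      (Nat.Coprime.pow_right _ ((Nat.Prime.coprime_iff_not_dvd (by norm_num)).2 d5).symm)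
  have h63 := hco.dvd_of_dvd_mul_left hd
  generalize Nat.card M = m at *
  have hle := Nat.le_of_dvd (by norm_num) h63
  interval_cases m <;> revert h63 d9 <;> decide

end Cfsg.Agent.H450.NF
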